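import Cfsg.Agent.CA.T5
import Cfsg.Agent.CA.T7
import Cfsg.Agent.CA.T9
import Cfsg.Agent.TC.PB
import Cfsg.Agent.Cl.Congr

/-! # Carmichael's presentation of `A₇` and `A₉`, involutions of alternating groups -/

set_option autoImplicit false

namespace Cfsg.Agent.CA

open Cfsg Cfsg.Agent.TC Subgroup Equiv Equiv.Perm

universe u

theorem hom_of_pb {A : Type} {D : Type u} [Group A] [Finite A] [Group D] {k N : ℕ} {iv : ℕ → ℕ}
    {base : List (List ℕ)} (h : PB.{u} k iv base N) (hN : N ≤ Nat.card A) {a : ℕ → A} {v : ℕ → D}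
    (ha : closure (a '' {i | i < k}) = ⊤) (h1 : ∀ i < k, iv i < k ∧ a (iv i) * a i = 1 ∧ v (iv i) * v i = 1)
    (h2 : ∀ l ∈ base, (∀ i ∈ l, i < k) ∧ evl a l = 1 ∧ evl v l = 1) : ∃ φ : A →* D, ∀ i < k, φ (a i) = v i := by
  obtain ⟨hf, hc⟩ := h (A × D) (fun i => (a i, v i)) (fun i hi => ⟨(h1 i hi).1, Prod.ext (h1 i hi).2.1 (h1 i hi).2.2⟩)
    fun l hl => ⟨(h2 l hl).1, Prod.ext ((evl_map (MonoidHom.fst A D) _ l).trans (h2 l hl).2.1)
      ((evl_map (MonoidHom.snd A D) _ l).trans (h2 l hl).2.2)⟩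
  set H := closure ((fun i => (a i, v i)) '' {i | i < k})
  have hm : H.map (MonoidHom.fst A D) = ⊤ := by rw [MonoidHom.map_closure, Set.image_image, ← ha]; rfl
  have hs : Function.Surjective ((MonoidHom.fst A D).comp H.subtype) := by
    rw [← MonoidHom.range_eq_top, MonoidHom.range_comp, range_subtype, hm]
  have hi := (hs.bijective_of_nat_card_le (hc.trans hN)).1
  have k1 : ∀ x, ((1 : A), x) ∈ H → x = 1 := fun x hx =>
    congrArg (fun p : H => p.1.2) (hi (a₁ := ⟨_, hx⟩) (a₂ := 1) rfl)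
  obtain ⟨φ, hφ⟩ := Cl.exists_hom_of_graph H hm k1
  exact ⟨φ, fun i hi => mul_inv_eq_one.1 (k1 _ (by
    simpa using mul_mem (hφ (a i)) (inv_mem (subset_closure ⟨i, hi, rfl⟩ : (a i, v i) ∈ H))))⟩

/-- the three-cycles through `0` and `1` -/
def cy {n : ℕ} (k : Fin (n + 2)) : alternatingGroup (Fin (n + 2)) :=
  if h : k = 0 then 1 else ⟨swap 0 1 * swap 0 k, by simp [sign_swap, Ne.symm h]⟩

theorem cy_top {n : ℕ} {H : Subgroup (alternatingGroup (Fin (n + 2)))} (h : ∀ k, k ≠ 0 → k ≠ 1 → cy k ∈ H) :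
    H = ⊤ := by
  let K := H.map (alternatingGroup _).subtype
  have e : ∀ k, k ≠ 0 → swap 0 1 * swap 0 k ∈ K := fun k hk => by
    by_cases h1 : k = 1
    · simp [h1, K.one_mem]
    · exact ⟨_, h k hk h1, by simp [cy, hk]⟩
  have s : ∀ a b : Fin (n + 2), a ≠ b → swap 0 1 * swap a b ∈ K := fun a b ab => by
    by_cases ha : a = 0
    · exact ha ▸ e b (ha ▸ ab.symm)
    by_cases hb : b = 0
    · rw [hb, swap_comm a]; exact e a ha
    have := mul_mem (mul_mem (e a ha) (inv_mem (e b hb))) (e a ha)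
    rwa [mul_inv_rev, swap_inv, swap_inv, mul_assoc, mul_assoc, mul_assoc, swap_mul_self_mul, ← mul_assoc (swap 0 a),
      swap_comm 0 b, swap_mul_swap_mul_swap hb ab.symm] at this
  have k : ∀ g : Perm (Fin (n + 2)), (sign g = 1 → g ∈ K) ∧ (sign g = -1 → swap 0 1 * g ∈ K) := fun g => by
    induction g using swap_induction_on with
    | one => exact ⟨fun _ => one_mem _, fun h => by simp at h⟩
    | swap_mul f x y xy ih =>
      rw [map_mul, sign_swap xy]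
      refine ⟨fun h => ?_, fun h => mul_assoc _ _ f ▸ mul_mem (s x y xy) (ih.1 (by simpa using h))⟩
      simpa [mul_assoc] using mul_mem (inv_mem (s x y xy)) (ih.2 (by rw [← neg_eq_iff_eq_neg]; simpa using h))
  refine eq_top_iff.2 fun g _ => ?_
  obtain ⟨x, hx, e⟩ := (k g).1 g.2
  exact Subtype.ext e ▸ hx

/-- letters: generators and their inverses -/
def lt2 {D : Type*} [Group D] (x : ℕ → D) (i : ℕ) : D := if i % 2 = 0 then x (i / 2 + 1) else (x (i / 2 + 1))⁻¹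

theorem pb7 : PB.{u} 10 CA7.iv CA7.base 2520 :=
  (CA5.cert.pb0.step (base := CA7.base) CA7.cert (by decide +kernel)).congr (by decide +kernel)

theorem pb9 : PB.{u} 14 CA9.iv CA9.base 181440 :=
  (pb7.step (base := CA9.base) CA9.cert (by decide +kernel)).congr (by decide +kernel)

theorem card_A7 : Nat.card (alternatingGroup (Fin 7)) = 2520 := by rw [nat_card_alternatingGroup]; simp; rfl

theorem card_A9 : Nat.card (alternatingGroup (Fin 9)) = 181440 := by rw [nat_card_alternatingGroup]; simp; rfl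

theorem lt2_ok {n : ℕ} {iv : ℕ → ℕ} {base : List (List ℕ)}
    (h1 : ∀ i < 2 * n, iv i < 2 * n ∧ iv i / 2 = i / 2 ∧ iv i % 2 ≠ i % 2)
    (h2 : ∀ l ∈ base, ∃ j < n, l = [2 * j, 2 * j, 2 * j] ∨ ∃ i < j, l = [2 * i, 2 * j, 2 * i, 2 * j])
    {D : Type*} [Group D] {x : ℕ → D} (c3 : ∀ j < n, x (j + 1) ^ 3 = 1)
    (c2 : ∀ j < n, ∀ i < j, (x (j + 1) * x (i + 1)) ^ 2 = 1) :
    (∀ i < 2 * n, lt2 x (iv i) * lt2 x i = 1) ∧ ∀ l ∈ base, (∀ i ∈ l, i < 2 * n) ∧ evl (lt2 x) l = 1 := by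
  have e : ∀ j, lt2 x (2 * j) = x (j + 1) := fun j => by simp [lt2]
  refine ⟨fun i hi => ?_, fun l hl => ?_⟩
  · obtain ⟨-, a, b⟩ := h1 i hi
    unfold lt2
    rw [a]
    split_ifs <;> first | omega | simp
  · obtain ⟨j, hj, rfl | ⟨i, hi, rfl⟩⟩ := h2 l hl
    · exact ⟨by simp; omega, by simpa [evl, e, pow_succ] using c3 j hj⟩
    · exact ⟨by simp; omega, by simpa [evl, e, pow_succ, mul_assoc] using c2 j hj i hi⟩

theorem carm {n N : ℕ} {iv : ℕ → ℕ} {base : List (List ℕ)} (h : PB.{u} (2 * n) iv base N)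
    (hN : N ≤ Nat.card (alternatingGroup (Fin (n + 2))))
    (h1 : ∀ i < 2 * n, iv i < 2 * n ∧ iv i / 2 = i / 2 ∧ iv i % 2 ≠ i % 2)
    (h2 : ∀ l ∈ base, ∃ j < n, l = [2 * j, 2 * j, 2 * j] ∨ ∃ i < j, l = [2 * i, 2 * j, 2 * i, 2 * j])
    (h3 : ∀ j < n, cy (Fin.ofNat (n + 2) (j + 2)) ^ 3 = 1)
    (h4 : ∀ j < n, ∀ i < j, (cy (Fin.ofNat (n + 2) (j + 2)) * cy (Fin.ofNat (n + 2) (i + 2))) ^ 2 = 1)
    {D : Type u} [Group D] {x : ℕ → D} (c3 : ∀ j < n, x (j + 1) ^ 3 = 1)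
    (c2 : ∀ j < n, ∀ i < j, (x (j + 1) * x (i + 1)) ^ 2 = 1) :
    ∃ φ : alternatingGroup (Fin (n + 2)) →* D, ∀ k : Fin (n + 2), 2 ≤ k.1 → φ (cy k) = x (k - 1) := by
  have a := lt2_ok h1 h2 (x := fun i => cy (Fin.ofNat (n + 2) (i + 1))) h3 h4
  have b := lt2_ok h1 h2 c3 c2
  have e : ∀ k : Fin (n + 2), 2 ≤ k.1 → lt2 (fun i => cy (Fin.ofNat (n + 2) (i + 1))) (2 * (k - 2)) = cy k :=
    fun k hk => by
      rw [lt2, if_pos (by omega), show 2 * (k.1 - 2) / 2 + 1 + 1 = k by omega, Fin.ofNat_val_eq_self]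
  obtain ⟨φ, hφ⟩ := hom_of_pb h hN (cy_top fun k k0 k1 => by
    have h0 : k.1 ≠ 0 := Fin.val_ne_of_ne k0
    have h1 : k.1 ≠ 1 := Fin.val_ne_of_ne k1
    exact subset_closure ⟨2 * (k - 2), show 2 * (k.1 - 2) < 2 * n by have := k.2; omega, e k (by omega)⟩)
    (fun i hi => ⟨(h1 i hi).1, a.1 i hi, b.1 i hi⟩) fun l hl => ⟨(a.2 l hl).1, (a.2 l hl).2, (b.2 l hl).2⟩
  refine ⟨φ, fun k hk => ?_⟩
  rw [← e k hk, hφ _ (by have := k.2; omega), lt2, if_pos (by omega), show 2 * (k.1 - 2) / 2 + 1 = k - 1 by omega]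

theorem hom7 {D : Type u} [Group D] {x : ℕ → D} (c3 : ∀ j < 5, x (j + 1) ^ 3 = 1)
    (c2 : ∀ j < 5, ∀ i < j, (x (j + 1) * x (i + 1)) ^ 2 = 1) :
    ∃ φ : alternatingGroup (Fin 7) →* D, ∀ k : Fin 7, 2 ≤ k.1 → φ (cy k) = x (k - 1) :=
  carm (n := 5) pb7 card_A7.ge (by decide +kernel) (by decide +kernel) (by decide +kernel) (by decide +kernel) c3 c2

theorem hom9 {D : Type u} [Group D] {x : ℕ → D} (c3 : ∀ j < 7, x (j + 1) ^ 3 = 1)
    (c2 : ∀ j < 7, ∀ i < j, (x (j + 1) * x (i + 1)) ^ 2 = 1) :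
    ∃ φ : alternatingGroup (Fin 9) →* D, ∀ k : Fin 9, 2 ≤ k.1 → φ (cy k) = x (k - 1) :=
  carm (n := 7) pb9 card_A9.ge (by decide +kernel) (by decide +kernel) (by decide +kernel) (by decide +kernel) c3 c2

section
variable {α : Type*} [Fintype α] [DecidableEq α] {σ τ : alternatingGroup α}

theorem inv_type {σ : Perm α} (h : σ * σ = 1) :
    σ.cycleType = Multiset.replicate σ.cycleType.card 2 ∧ σ.support.card = 2 * σ.cycleType.card := by
  have := cycleType_of_pow_prime_eq_one (p := 2) (σ := σ) (by rw [sq, h])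
  exact ⟨this, by rw [← sum_cycleType]; conv_lhs => rw [this]; simp [mul_comm]⟩

theorem inv_conj (hσ : σ * σ = 1) (hτ : τ * τ = 1) (h : σ.1.support.card = τ.1.support.card) : IsConj σ τ := by
  have h1 := inv_type (congrArg Subtype.val hσ)
  have h2 := inv_type (congrArg Subtype.val hτ)
  obtain ⟨π, hπ⟩ := isConj_iff.1 (isConj_iff_cycleType_eq.2 (show σ.1.cycleType = τ.1.cycleType by
    rw [h1.1, h2.1]; congr 1; omega))
  rcases Int.units_eq_one_or (sign π) with e | e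
  · exact isConj_iff.2 ⟨⟨π, e⟩, Subtype.ext hπ⟩
  by_cases e1 : τ = 1
  · rw [e1, OneMemClass.coe_one, conj_eq_one_iff] at hπ
    rw [e1, show σ = 1 from Subtype.ext hπ]
  obtain ⟨a, ha⟩ : ∃ a, τ.1 a ≠ a := not_forall.1 fun e => e1 (Subtype.ext (Equiv.ext e))
  refine isConj_iff.2 ⟨⟨swap (τ.1 a) a * π, by simp [sign_swap ha, e]⟩, Subtype.ext ?_⟩
  have : τ.1 * swap (τ.1 a) a * τ.1⁻¹ = swap (τ.1 a) a := by
    rw [← swap_apply_apply, swap_comm, ← mul_apply, ← Subgroup.coe_mul, hτ]; rfl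
  show _ * _ * σ.1 * (_ * π)⁻¹ = τ.1
  rw [mul_inv_rev, mul_assoc, mul_assoc, ← mul_assoc σ.1, ← mul_assoc π, ← mul_assoc π, hπ, swap_inv,
    mul_inv_eq_iff_eq_mul.1 this, swap_mul_self_mul]

theorem inv_supp (hσ : σ * σ = 1) (h1 : σ ≠ 1) : 4 ∣ σ.1.support.card ∧ σ.1.support.card ≠ 0 := by
  have h := inv_type (congrArg Subtype.val hσ)
  have s : sign σ.1 = 1 := σ.2
  rw [sign_of_cycleType, sum_cycleType, h.2, neg_one_pow_eq_one_iff_even (by decide)] at s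
  exact ⟨by rw [h.2]; obtain ⟨k, hk⟩ := s; omega, fun e => h1 (Subtype.ext (card_support_eq_zero.1 e))⟩

theorem not_fifteen (h : Fintype.card α < 8) (σ : Perm α) : orderOf σ ≠ 15 := fun e => by
  have k : ∀ n ∈ σ.cycleType, n = 3 ∨ n = 5 := fun n hn => by
    have h1 := e ▸ dvd_of_mem_cycleType hn
    have h2 := two_le_of_mem_cycleType hn
    have h3 := ((Multiset.single_le_sum (fun _ _ => Nat.zero_le _) n hn).trans (sum_cycleType_le σ)).trans_lt h
    interval_cases n <;> omega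
  have l : ∀ m, (∀ n ∈ σ.cycleType, n = m) → 15 ∣ m := fun m hm =>
    e ▸ lcm_cycleType σ ▸ Multiset.lcm_dvd.2 fun n hn => (hm n hn).symm ▸ dvd_refl m
  have k3 : 3 ∈ σ.cycleType := by_contra fun q =>
    absurd (l 5 fun n hn => (k n hn).resolve_left fun a => q (a ▸ hn)) (by decide)
  have k5 : 5 ∈ σ.cycleType := by_contra fun q =>
    absurd (l 3 fun n hn => (k n hn).resolve_right fun a => q (a ▸ hn)) (by decide)
  obtain ⟨s, hs⟩ := Multiset.exists_cons_of_mem k3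
  obtain ⟨u, hu⟩ := Multiset.exists_cons_of_mem ((Multiset.mem_cons.1 (hs ▸ k5)).resolve_left (by decide))
  have := sum_cycleType_le σ
  rw [hs, hu] at this
  simp at this
  omega

end

/-- a dihedral group all of whose involutions are double transpositions -/
theorem exists_D8 : ∃ ψ : DihedralGroup 4 →* alternatingGroup (Fin 9), ∀ x, x ≠ 1 → ∃ k : Fin 2,
    ψ x ^ (k.1 + 1) * ψ x ^ (k.1 + 1) = 1 ∧ (ψ x ^ (k.1 + 1)).1.support.card = 4 :=
  ⟨MonoidHom.mk' (fun x => match x with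
    | .r i => (cy 2 * cy 3 * (cy 4 * cy 5 * cy 5 * cy 4)) ^ i.val
    | .sr i => cy 2 * cy 3 * (cy 2 * cy 3 * (cy 4 * cy 5 * cy 5 * cy 4)) ^ i.val) (by decide +kernel), by decide +kernel⟩

theorem card_cent7 : Nat.card (centralizer {(cy 2 * cy 3 : alternatingGroup (Fin 7))}) ∣ 48 := by
  have h := inv_type (σ := (cy 2 * cy 3 : alternatingGroup (Fin 7)).1) (by decide +kernel)
  have c : (cy 2 * cy 3 : alternatingGroup (Fin 7)).1.cycleType.card = 2 := by
    have : (cy 2 * cy 3 : alternatingGroup (Fin 7)).1.support.card = 4 := by decide +kernel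
    omega
  have := nat_card_centralizer (cy 2 * cy 3 : alternatingGroup (Fin 7)).1
  rw [h.1, c] at this
  rw [← show _ = 48 from this, ← card_map_of_injective (alternatingGroup _).subtype_injective]
  refine card_dvd_of_le ?_
  rintro _ ⟨x, hx, rfl⟩
  exact mem_centralizer_singleton_iff.2 (congrArg Subtype.val (mem_centralizer_singleton_iff.1 hx))

end Cfsg.Agent.CA
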